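import Groth.Agent.Locus.BaseChange
import Mathlib.RingTheory.Unramified.LocalRing
import Mathlib.AlgebraicGeometry.Morphisms.FinitePresentation
import Mathlib.AlgebraicGeometry.Noetherian
import Mathlib.RingTheory.Etale.Field

/-! Criteria for unramified and étale at a point. -/

open CategoryTheory CategoryTheory.Limits AlgebraicGeometry

universe u

namespace Groth.Agent.Locus.EtaleCriterion

set_option backward.isDefEq.respectTransparency false

open Groth.Agent.Locus

/-- Unramifiedness descends along a flat local homomorphism. -/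
theorem formallyUnramified_of_comp (R S T : Type*) [CommRing R] [CommRing S] [CommRing T]
    [IsLocalRing R] [IsLocalRing S] [IsLocalRing T] [Algebra R S] [Algebra S T] [Algebra R T]
    [IsScalarTower R S T] [IsLocalHom (algebraMap R S)] [IsLocalHom (algebraMap S T)]
    [IsLocalHom (algebraMap R T)] [Module.Flat S T] [Algebra.EssFiniteType R S]
    [Algebra.EssFiniteType R T] [Algebra.FormallyUnramified R T] :
    Algebra.FormallyUnramified R S := by
  have hT := Algebra.FormallyUnramified.map_maximalIdeal (R := R) (S := T)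
  refine Algebra.FormallyUnramified.iff_map_maximalIdeal_eq.mpr
    ⟨Algebra.isSeparable_tower_bot_of_isSeparable (IsLocalRing.ResidueField R) _
      (IsLocalRing.ResidueField T), le_antisymm ?_ ?_⟩
  · exact ((IsLocalRing.local_hom_TFAE (algebraMap R S)).out 0 2 rfl rfl).mp inferInstance
  · have : Module.FaithfullyFlat S T := Module.FaithfullyFlat.of_flat_of_isLocalHom
    have h : (IsLocalRing.maximalIdeal S).map (algebraMap S T) ≤
        ((IsLocalRing.maximalIdeal R).map (algebraMap R S)).map (algebraMap S T) := by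
      rw [Ideal.map_map, ← IsScalarTower.algebraMap_eq, hT]
      exact ((IsLocalRing.local_hom_TFAE (algebraMap S T)).out 0 2 rfl rfl).mp inferInstance
    have h' := Ideal.comap_mono (f := algebraMap S T) h
    rwa [Ideal.comap_map_eq_self_of_faithfullyFlat, Ideal.comap_map_eq_self_of_faithfullyFlat] at h'

/-- Flatness of the first map in a tower whose second map is faithfully flat. -/
theorem flat_of_comp_faithfullyFlat (R S T : Type u) [CommRing R] [CommRing S] [CommRing T]
    [Algebra R S] [Algebra S T] [Algebra R T] [IsScalarTower R S T] [Module.FaithfullyFlat S T]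
    [Module.Flat R T] : Module.Flat R S := by
  rw [Module.Flat.iff_lTensor_preserves_injective_linearMap]
  intro N P _ _ _ _ f hf
  have hT := Module.Flat.lTensor_preserves_injective_linearMap (M := T) f hf
  suffices Function.Injective (f.baseChange S) from this
  rw [← Module.FaithfullyFlat.lTensor_injective_iff_injective S T]
  have key : ∀ z, TensorProduct.AlgebraTensorModule.cancelBaseChange R S T T P
      (LinearMap.lTensor T (f.baseChange S) z) =
      LinearMap.lTensor T f (TensorProduct.AlgebraTensorModule.cancelBaseChange R S T T N z) := by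
    intro z
    induction z with
    | zero => simp
    | add a b ha hb => simp [ha, hb]
    | tmul t w =>
      induction w with
      | zero => simp
      | add a b ha hb => rw [TensorProduct.tmul_add]; simp only [map_add, ha, hb]
      | tmul s n => simp
  intro a b hab
  refine (TensorProduct.AlgebraTensorModule.cancelBaseChange R S T T N).injective (hT ?_)
  rw [← key, ← key, hab]

theorem formallyUnramified_stalkMap_of_comp {X Y S : Scheme.{u}} (f : Y ⟶ S) (g : X ⟶ Y)
    [LocallyOfFiniteType f] [LocallyOfFiniteType (g ≫ f)] (x : X)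
    (hg : (g.stalkMap x).hom.Flat) (hh : ((g ≫ f).stalkMap x).hom.FormallyUnramified) :
    (f.stalkMap (g x)).hom.FormallyUnramified := by
  have h1 := LocallyOfFiniteType.stalkMap f (g x)
  have h2 := LocallyOfFiniteType.stalkMap (g ≫ f) x
  rw [Scheme.Hom.stalkMap_comp, CommRingCat.hom_comp] at h2 hh
  have h3 : IsLocalHom ((g.stalkMap x).hom.comp (f.stalkMap (g x)).hom) :=
    RingHom.isLocalHom_comp _ _
  algebraize [(f.stalkMap (g x)).hom, (g.stalkMap x).hom,
    (g.stalkMap x).hom.comp (f.stalkMap (g x)).hom]
  have : IsLocalHom (algebraMap (S.presheaf.stalk (f (g x))) (Y.presheaf.stalk (g x))) :=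
    inferInstanceAs (IsLocalHom (f.stalkMap (g x)).hom)
  have : IsLocalHom (algebraMap (Y.presheaf.stalk (g x)) (X.presheaf.stalk x)) :=
    inferInstanceAs (IsLocalHom (g.stalkMap x).hom)
  have : IsLocalHom (algebraMap (S.presheaf.stalk (f (g x))) (X.presheaf.stalk x)) := h3
  have : Algebra.EssFiniteType (S.presheaf.stalk (f (g x))) (X.presheaf.stalk x) := h2
  have : Algebra.FormallyUnramified (S.presheaf.stalk (f (g x))) (X.presheaf.stalk x) := hh
  exact formallyUnramified_of_comp _ _ (X.presheaf.stalk x)

theorem isSeparable_residueField_iff {X Y : Scheme.{u}} (f : X ⟶ Y) (x : X) :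
    letI := (f.stalkMap x).hom.toAlgebra
    letI : IsLocalHom (algebraMap (Y.presheaf.stalk (f x)) (X.presheaf.stalk x)) :=
      inferInstanceAs <| IsLocalHom (f.stalkMap x).hom
    ((letI := (f.residueFieldMap x).hom.toAlgebra
      Algebra.IsSeparable (Y.residueField (f x)) (X.residueField x)) ↔
        Algebra.IsSeparable (IsLocalRing.ResidueField (Y.presheaf.stalk (f x)))
          (IsLocalRing.ResidueField (X.presheaf.stalk x))) ∧
    ((letI := (f.residueFieldMap x).hom.toAlgebra
      Module.Finite (Y.residueField (f x)) (X.residueField x)) ↔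
        Module.Finite (IsLocalRing.ResidueField (Y.presheaf.stalk (f x)))
          (IsLocalRing.ResidueField (X.presheaf.stalk x))) := by
  let := (f.stalkMap x).hom.toAlgebra
  have : IsLocalHom (algebraMap (Y.presheaf.stalk (f x)) (X.presheaf.stalk x)) :=
    inferInstanceAs <| IsLocalHom (f.stalkMap x).hom
  have e : (f.residueFieldMap x).hom.toAlgebra =
      (inferInstance : Algebra (IsLocalRing.ResidueField (Y.presheaf.stalk (f x)))
          (IsLocalRing.ResidueField (X.presheaf.stalk x))) := by
    refine Algebra.algebra_ext _ _ fun r ↦ ?_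
    obtain ⟨r, rfl⟩ := IsLocalRing.residue_surjective r
    rfl
  exact ⟨Iff.of_eq (congrArg (@Algebra.IsSeparable (IsLocalRing.ResidueField (Y.presheaf.stalk (f x)))
      (IsLocalRing.ResidueField (X.presheaf.stalk x)) _ _) e),
    Iff.of_eq (congrArg (fun a : Algebra (IsLocalRing.ResidueField (Y.presheaf.stalk (f x)))
      (IsLocalRing.ResidueField (X.presheaf.stalk x)) => @Module.Finite
        (IsLocalRing.ResidueField (Y.presheaf.stalk (f x)))
        (IsLocalRing.ResidueField (X.presheaf.stalk x)) _ _ a.toModule) e)⟩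

theorem formallyUnramified_stalkMap_iff {X Y : Scheme.{u}} (f : X ⟶ Y) [LocallyOfFiniteType f]
    (x : X) : (f.stalkMap x).hom.FormallyUnramified ↔
    (IsLocalRing.maximalIdeal (Y.presheaf.stalk (f x))).map (f.stalkMap x).hom =
      IsLocalRing.maximalIdeal (X.presheaf.stalk x) ∧
    letI := (f.residueFieldMap x).hom.toAlgebra
    Module.Finite (Y.residueField (f x)) (X.residueField x) ∧
      Algebra.IsSeparable (Y.residueField (f x)) (X.residueField x) := by
  have h1 := LocallyOfFiniteType.stalkMap f x
  algebraize [(f.stalkMap x).hom]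
  have : IsLocalHom (algebraMap (Y.presheaf.stalk (f x)) (X.presheaf.stalk x)) :=
    inferInstanceAs <| IsLocalHom (f.stalkMap x).hom
  obtain ⟨es, ef⟩ := isSeparable_residueField_iff f x
  change Algebra.FormallyUnramified (Y.presheaf.stalk (f x)) (X.presheaf.stalk x) ↔ _
  constructor
  · intro h
    exact ⟨Algebra.FormallyUnramified.map_maximalIdeal,
      ef.mpr (Algebra.FormallyUnramified.finite_of_free _ _), es.mpr inferInstance⟩
  · rintro ⟨h1, -, h3⟩
    exact Algebra.FormallyUnramified.iff_map_maximalIdeal_eq.mpr ⟨es.mp h3, h1⟩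

/-- Flat and unramified at a point implies smooth at it. -/
theorem mem_smoothLocus_of_flat_of_unramified {X Y : Scheme.{u}} (f : X ⟶ Y)
    [LocallyOfFinitePresentation f] (x : X) (hflat : (f.stalkMap x).hom.Flat)
    (hunr : (f.stalkMap x).hom.FormallyUnramified) : x ∈ f.smoothLocus := by
  have h : IsPullback (f.fiberι (f x)) (f.fiberToSpecResidueField (f x)) f
      (Y.fromSpecResidueField (f x)) := IsPullback.of_hasPullback _ _
  have : LocallyOfFinitePresentation (f.fiberToSpecResidueField (f x)) :=
    MorphismProperty.of_isPullback h ‹_›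
  obtain ⟨U', hxU', hU'⟩ := BaseChange.exists_nhd_of_isPullback @FormallyUnramified h
    (x' := f.asFiber x)
    (by rw [Scheme.Hom.fiberι_asFiber]; exact (Basic.exists_formallyUnramified_nhd_iff f x).mpr hunr)
  have : Etale (U'.ι ≫ f.fiberToSpecResidueField (f x)) := Etale.of_formallyUnramified_of_flat _
  have := BaseChange.mem_smoothLocus_of_flat_stalkMap h (x' := f.asFiber x)
    (by rw [Scheme.Hom.fiberι_asFiber]; exact hflat)
    ((Basic.exists_smooth_nhd_iff _ _).mp ⟨U', hxU', inferInstance⟩)
  rwa [Scheme.Hom.fiberι_asFiber] at this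

theorem flat_stalkMap_of_mem_smoothLocus {X Y : Scheme.{u}} (f : X ⟶ Y)
    [LocallyOfFinitePresentation f] {x : X} (hx : x ∈ f.smoothLocus) :
    (f.stalkMap x).hom.Flat := by
  obtain ⟨U, hxU, hU⟩ := (Basic.exists_smooth_nhd_iff f x).mpr hx
  have h' := Flat.stalkMap (U.ι ≫ f) ⟨x, hxU⟩
  rw [Scheme.Hom.stalkMap_comp, CommRingCat.hom_comp,
    RingHom.Flat.respectsIso.cancel_right_isIso] at h'
  exact h'

theorem exists_etale_nhd_iff_flat {X Y : Scheme.{u}} (f : X ⟶ Y)
    [LocallyOfFinitePresentation f] (x : X) :
    (∃ U : X.Opens, x ∈ U ∧ Etale (U.ι ≫ f)) ↔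
      (f.stalkMap x).hom.Flat ∧ (f.stalkMap x).hom.FormallyUnramified :=
  (Basic.exists_etale_nhd_iff f x).trans
    ⟨fun h => ⟨flat_stalkMap_of_mem_smoothLocus f h.1, h.2⟩,
      fun h => ⟨mem_smoothLocus_of_flat_of_unramified f x h.1 h.2, h.2⟩⟩

theorem flat_stalkMap_of_comp {X Y S : Scheme.{u}} (f : Y ⟶ S) (g : X ⟶ Y) (x : X)
    (hg : (g.stalkMap x).hom.Flat) (hh : ((g ≫ f).stalkMap x).hom.Flat) :
    (f.stalkMap (g x)).hom.Flat := by
  rw [Scheme.Hom.stalkMap_comp, CommRingCat.hom_comp] at hh
  algebraize [(f.stalkMap (g x)).hom, (g.stalkMap x).hom,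
    (g.stalkMap x).hom.comp (f.stalkMap (g x)).hom]
  have : IsLocalHom (algebraMap (Y.presheaf.stalk (g x)) (X.presheaf.stalk x)) :=
    inferInstanceAs (IsLocalHom (g.stalkMap x).hom)
  have : Module.FaithfullyFlat (Y.presheaf.stalk (g x)) (X.presheaf.stalk x) :=
    Module.FaithfullyFlat.of_flat_of_isLocalHom
  have : Module.Flat (S.presheaf.stalk (f (g x))) (X.presheaf.stalk x) := hh
  exact flat_of_comp_faithfullyFlat _ _ (X.presheaf.stalk x)

theorem locallyOfFinitePresentation_of_isLocallyNoetherian {X Y : Scheme.{u}} (f : X ⟶ Y)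
    [LocallyOfFiniteType f] [IsLocallyNoetherian Y] : LocallyOfFinitePresentation f := by
  rw [HasRingHomProperty.iff_appLE (P := @LocallyOfFinitePresentation)]
  intro U V e
  have := IsLocallyNoetherian.component_noetherian U
  exact RingHom.FinitePresentation.of_finiteType.mp (f.finiteType_appLE U.2 V.2 e)

end Groth.Agent.Locus.EtaleCriterion
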