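import Groth.Agent.Locus.SmoothDescent
import Mathlib.RingTheory.Smooth.Fiber
import Mathlib.RingTheory.Flat.Stability

/-! The fibre criterion for smoothness at a point. -/

open TensorProduct

universe u

namespace Groth.Agent.Locus.FiberCriterion

variable {A B : Type u} [CommRing A] [CommRing B] [Algebra A B]

attribute [local instance] Algebra.TensorProduct.rightAlgebra

set_option backward.isDefEq.respectTransparency false

/-- A finitely presented algebra is smooth at a point where it is flat and where its fibre is smooth. -/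
theorem isSmoothAt_of_flat_of_fiber [Algebra.FinitePresentation A B] (p : Ideal A) [p.IsPrime]
    (q : Ideal B) [q.IsPrime] (hflat : Module.Flat A (Localization.AtPrime q))
    (qb : Ideal (p.Fiber B)) [qb.IsPrime] [qb.LiesOver q]
    (hfib : Algebra.IsSmoothAt p.ResidueField qb) : Algebra.IsSmoothAt A q := by
  have hq : q.LiesOver p := .tower_bot qb q p
  let Rp := Localization.AtPrime p
  let Sp := Localization (Algebra.algebraMapSubmonoid B p.primeCompl)
  let Sq := Localization.AtPrime q
  let := Localization.AtPrime.algebraOfLiesOver p q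
  have : Module.Flat Rp Sq := (Module.flat_iff_of_isLocalization Rp p.primeCompl Sq).mpr hflat
  let f : Sp →ₐ[B] Sq := IsLocalization.liftAlgHom (M := Algebra.algebraMapSubmonoid B p.primeCompl)
        (f := Algebra.ofId _ _) (by
      rintro ⟨_, x, hx, rfl⟩
      simpa using! IsLocalization.map_units (M := q.primeCompl) Sq ⟨algebraMap _ _ x,
        by simp_all [q.over_def p]⟩)
  algebraize [f.toRingHom]
  have : IsScalarTower A Sp Sq := .to₁₃₄ _ B _ _
  have : IsScalarTower Rp Sp Sq := .of_algebraMap_eq' <| by
    apply IsLocalization.ringHom_ext p.primeCompl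
    simp only [RingHom.comp_assoc, ← IsScalarTower.algebraMap_eq]
  have : IsLocalization (Algebra.algebraMapSubmonoid Sp q.primeCompl) Sq :=
    .isLocalization_of_submonoid_le _ _ (Algebra.algebraMapSubmonoid B p.primeCompl) _
    (by rintro _ ⟨x, hx, rfl⟩; simp_all [q.over_def p])
  have : Algebra.FinitePresentation Rp Sp := by
    have : Algebra.IsPushout A Rp B Sp :=
      .symm <| Algebra.isPushout_of_isLocalization p.primeCompl _ _ _
    exact .equiv (Algebra.IsPushout.equiv A Rp B Sp)
  have : Algebra.FormallySmooth (IsLocalRing.ResidueField Rp)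
      (IsLocalRing.ResidueField Rp ⊗[Rp] Sq) := by
    let : Algebra B (IsLocalRing.ResidueField Rp ⊗[A] B) := Algebra.TensorProduct.rightAlgebra
    let T := (p.ResidueField ⊗[A] B) ⊗[B] Sq
    have hM : IsLocalization qb.primeCompl T := by
      refine IsLocalization.of_le_of_exists_dvd
        (Algebra.algebraMapSubmonoid (p.Fiber B) q.primeCompl) qb.primeCompl ?_ fun n hn => ?_
      · rintro _ ⟨b, hb, rfl⟩ h
        exact hb (by rw [Ideal.over_def qb q]; exact h)
      · obtain ⟨r, hr, s, hs⟩ := Ideal.Fiber.exists_smul_eq_one_tmul p n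
        refine ⟨algebraMap B (p.Fiber B) s, ⟨s, fun hsq => ?_, rfl⟩, algebraMap A _ r, ?_⟩
        · refine hn ?_
          have h2 : algebraMap A (p.Fiber B) r * n ∈ qb := by
            rw [← Algebra.smul_def, hs]
            rw [Ideal.over_def qb q] at hsq
            exact hsq
          exact (‹qb.IsPrime›.mem_or_mem h2).resolve_left fun h => hr
            (by rw [Ideal.over_def qb p]; exact h)
        · rw [mul_comm, ← Algebra.smul_def, hs]; rfl
    let eT : Localization.AtPrime qb ≃ₐ[p.ResidueField] T :=
      (IsLocalization.algEquiv qb.primeCompl (Localization.AtPrime qb) T).restrictScalars p.ResidueField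
    have : Algebra.FormallySmooth p.ResidueField (Localization.AtPrime qb) := hfib
    have : Algebra.FormallySmooth p.ResidueField T :=
      Algebra.FormallySmooth.of_equiv (R := p.ResidueField) (A := Localization.AtPrime qb) eT
    let e : IsLocalRing.ResidueField Rp ⊗[A] B ≃ₐ[B] B ⊗[A] IsLocalRing.ResidueField Rp :=
      { __ := Algebra.TensorProduct.comm _ _ _, commutes' _ := rfl }
    let e' : (IsLocalRing.ResidueField Rp ⊗[A] B) ⊗[B] Sq ≃ₐ[A] IsLocalRing.ResidueField Rp ⊗[Rp] Sq :=
      ((Algebra.TensorProduct.comm _ _ _).restrictScalars A).trans <|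
      ((Algebra.TensorProduct.congr (.refl (R := B)) e).restrictScalars A).trans <|
      ((Algebra.TensorProduct.cancelBaseChange _ _ B _ _).restrictScalars A).trans <|
      (Algebra.TensorProduct.comm _ _ _).trans (Algebra.TensorProduct.equivOfCompatibleSMul ..)
    have : e'.toAlgHom.comp (IsScalarTower.toAlgHom A p.ResidueField _) =
        IsScalarTower.toAlgHom _ _ _ := by ext
    let e'' : (IsLocalRing.ResidueField Rp ⊗[A] B) ⊗[B] Sq ≃ₐ[IsLocalRing.ResidueField Rp]
        IsLocalRing.ResidueField Rp ⊗[Rp] Sq :=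
      { __ := e', commutes' r := congr($this r) }
    exact .of_equiv e''
  have := Algebra.FormallySmooth.of_formallySmooth_residueField_tensor
    (R := Rp) (S := Sq) (P := Sp) (Algebra.algebraMapSubmonoid _ q.primeCompl)
  exact .comp A Rp Sq

theorem isSmoothAt_comap {R S P : Type u} [CommRing R] [CommRing S] [CommRing P] [Algebra R S]
    [Algebra R P] (e : S ≃ₐ[R] P) (J : Ideal P) [J.IsPrime] (h : Algebra.IsSmoothAt R J) :
    Algebra.IsSmoothAt R (J.comap e) :=
  have : Algebra.FormallySmooth R (Localization.AtPrime J) := h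
  Algebra.FormallySmooth.of_equiv (Localization.localAlgEquiv (J.comap e) J e rfl).symm

theorem isSmoothAt_descend {F S K P : Type u} [Field F] [Field K] [Algebra F K] [CommRing S]
    [Algebra F S] [Algebra.FinitePresentation F S] [CommRing P] [Algebra K P]
    (e : K ⊗[F] S ≃ₐ[K] P) (q' : Ideal P) [q'.IsPrime] (qb : Ideal S) [qb.IsPrime]
    (hqb : ∀ s, s ∈ qb ↔ e (1 ⊗ₜ[F] s) ∈ q') (h : Algebra.IsSmoothAt K q') :
    Algebra.IsSmoothAt F qb := by
  have h'' := isSmoothAt_comap e q' h
  have : (q'.comap e).LiesOver qb := ⟨Ideal.ext fun s => hqb s⟩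
  exact SmoothDescent.isSmoothAt_of_baseChange K (q'.comap e) qb h''

/-- A finitely presented algebra is smooth at a point where it is flat and where its base change
to a field is smooth. -/
theorem isSmoothAt_of_flat_of_field [Algebra.FinitePresentation A B] {K : Type u} [Field K]
    [Algebra A K] (q' : Ideal (K ⊗[A] B)) [q'.IsPrime] (q : Ideal B) [q.IsPrime] [q'.LiesOver q]
    (hflat : Module.Flat A (Localization.AtPrime q)) (h : Algebra.IsSmoothAt K q') :
    Algebra.IsSmoothAt A q := by
  let p := RingHom.ker (algebraMap A K)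
  have : p.IsPrime := RingHom.ker_isPrime _
  let ι : p.ResidueField →ₐ[A] K := Ideal.ResidueField.liftₐ p (Algebra.ofId A K) le_rfl
    fun a ha => Ne.isUnit (fun h0 => ha h0)
  algebraize [ι.toRingHom]
  have : IsScalarTower A p.ResidueField K := .of_algebraMap_eq' ι.comp_algebraMap.symm
  let e : K ⊗[p.ResidueField] (p.Fiber B) ≃ₐ[K] K ⊗[A] B :=
    Algebra.TensorProduct.cancelBaseChange A p.ResidueField K K B
  let qb : Ideal (p.Fiber B) := q'.comap
    ((e.toAlgHom.restrictScalars p.ResidueField).comp Algebra.TensorProduct.includeRight)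
  have hqbp : qb.IsPrime := Ideal.comap_isPrime _ q'
  have hqb : qb.LiesOver q := ⟨by
    rw [Ideal.over_def q' q]
    ext b
    change (1 : K) ⊗ₜ[A] b ∈ q' ↔ e ((1 : K) ⊗ₜ[p.ResidueField] ((1 : p.ResidueField) ⊗ₜ[A] b)) ∈ q'
    simp [e]⟩
  have h'' := isSmoothAt_descend e q' qb (fun s => Iff.rfl) h
  exact @isSmoothAt_of_flat_of_fiber A B _ _ _ _ p _ q _ hflat qb hqbp hqb h''

end Groth.Agent.Locus.FiberCriterion
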