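import Groth.Agent.Locus.Basic
import Groth.Agent.Locus.FiberCriterion
import Mathlib.AlgebraicGeometry.Morphisms.Flat
import Mathlib.AlgebraicGeometry.Fiber

/-! Smooth, unramified and étale neighbourhoods under base change. -/

open CategoryTheory CategoryTheory.Limits AlgebraicGeometry

universe u

namespace Groth.Agent.Locus.BaseChange

set_option backward.isDefEq.respectTransparency false

open Groth.Agent.Locus

attribute [local instance] Algebra.TensorProduct.rightAlgebra

variable {X S X' S' : Scheme.{u}} {f : X ⟶ S} {g : S' ⟶ S} {f' : X' ⟶ S'} {g' : X' ⟶ X}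

theorem exists_nhd_of_isPullback (P : MorphismProperty Scheme.{u}) [P.IsStableUnderBaseChange]
    (h : IsPullback g' f' f g) {x' : X'} (hU : ∃ U : X.Opens, g' x' ∈ U ∧ P (U.ι ≫ f)) :
    ∃ U' : X'.Opens, x' ∈ U' ∧ P (U'.ι ≫ f') := by
  obtain ⟨U, hxU, hP⟩ := hU
  exact ⟨g' ⁻¹ᵁ U, hxU,
    P.of_isPullback ((isPullback_morphismRestrict g' U).paste_vert h) hP⟩

theorem mem_smoothLocus_forward (h : IsPullback g' f' f g) [LocallyOfFinitePresentation f]
    [LocallyOfFinitePresentation f'] {x' : X'} (hx : g' x' ∈ f.smoothLocus) :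
    x' ∈ f'.smoothLocus :=
  (Basic.exists_smooth_nhd_iff f' x').mp
    (exists_nhd_of_isPullback @Smooth h ((Basic.exists_smooth_nhd_iff f _).mpr hx))

theorem formallyUnramified_stalkMap_of_isPullback (h : IsPullback g' f' f g) [LocallyOfFiniteType f]
    {x' : X'} (hx : (f'.stalkMap x').hom.FormallyUnramified) :
    (f.stalkMap (g' x')).hom.FormallyUnramified := by
  obtain ⟨V, V', U, W, hV, hV', hU, hW, eV, eU, eW, eW', hxW, hpo⟩ :=
    Basic.exists_affine_charts h x'
  rw [Basic.formallyUnramified_stalkMap_iff f' V' hV' W hW eW hxW] at hx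
  rw [Basic.formallyUnramified_stalkMap_iff f V hV U hU eU (eW' hxW)]
  have := f.finiteType_appLE hV hU eU
  algebraize [(f.appLE V U eU).hom, (g.appLE V V' eV).hom, (f'.appLE V' W eW).hom]
  obtain ⟨e, he⟩ := Basic.exists_tensor_point hpo (hW.primeIdealOf ⟨x', hxW⟩).asIdeal
  let Q' := (hW.primeIdealOf ⟨x', hxW⟩).asIdeal.comap e
  have : Q'.LiesOver (hU.primeIdealOf ⟨g' x', eW' hxW⟩).asIdeal := ⟨by
    rw [← IsAffineOpen.comap_primeIdealOf_appLE U hU W hW eW' hxW]
    ext y
    change (g'.appLE U W eW') y ∈ (hW.primeIdealOf ⟨x', hxW⟩).asIdeal ↔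
      e (Algebra.TensorProduct.includeRight (R := Γ(S, V)) (A := Γ(S', V')) y) ∈
        (hW.primeIdealOf ⟨x', hxW⟩).asIdeal
    rw [he y]⟩
  have hsm : Algebra.IsUnramifiedAt Γ(S', V') Q' := by
    have : Algebra.FormallyUnramified Γ(S', V')
      (Localization.AtPrime (hW.primeIdealOf ⟨x', hxW⟩).asIdeal) := hx
    exact Algebra.FormallyUnramified.of_equiv (Localization.localAlgEquiv Q' _ e rfl).symm
  exact Groth.Agent.Locus.SmoothDescent.isUnramifiedAt_of_baseChange _ Q' _ hsm

theorem flat_stalkMap_iff {X Y : Scheme.{u}} {f : X ⟶ Y} {x : X} (U : Y.Opens)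
    (hU : IsAffineOpen U) (V : X.Opens) (hV : IsAffineOpen V) (hVU : V ≤ f ⁻¹ᵁ U) (hx : x ∈ V) :
    letI := (f.appLE U V hVU).hom.toAlgebra
    (f.stalkMap x).hom.Flat ↔
      Module.Flat Γ(Y, U) (Localization.AtPrime (hV.primeIdealOf ⟨x, hx⟩).asIdeal) := by
  let := (f.appLE U V hVU).hom.toAlgebra
  let p := (hU.primeIdealOf ⟨f x, hVU hx⟩).asIdeal
  let q := (hV.primeIdealOf ⟨x, hx⟩).asIdeal
  have : q.LiesOver p :=
    ⟨congr($(IsAffineOpen.comap_primeIdealOf_appLE U hU V hV hVU hx).1).symm⟩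
  let := Localization.AtPrime.algebraOfLiesOver p q
  trans Module.Flat (Localization.AtPrime p) (Localization.AtPrime q)
  · rw [← RingHom.flat_algebraMap_iff]
    exact RingHom.Flat.respectsIso.arrow_mk_iso_iff
      (IsAffineOpen.arrowStalkMapIso f U hU V hV hVU hx)
  · exact Module.flat_iff_of_isLocalization (Localization.AtPrime p) p.primeCompl _

theorem flat_fromSpecStalk (X : Scheme.{u}) (x : X) : Flat (X.fromSpecStalk x) := by
  obtain ⟨_, ⟨U, hU, rfl⟩, hxU, -⟩ :=
    X.isBasis_affineOpens.exists_subset_of_mem_open (Set.mem_univ x) isOpen_univ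
  rw [← hU.fromSpecStalk_eq_fromSpecStalk hxU]
  have : Flat (Spec.map (X.presheaf.germ U x hxU)) := by
    rw [HasRingHomProperty.Spec_iff (P := @Flat)]
    let : Algebra Γ(X, U) (X.presheaf.stalk x) := (X.presheaf.germ U x hxU).hom.toAlgebra
    have : IsLocalization.AtPrime (X.presheaf.stalk x) (hU.primeIdealOf ⟨x, hxU⟩).asIdeal :=
      hU.isLocalization_stalk ⟨x, hxU⟩
    exact RingHom.flat_algebraMap_iff.mpr
      (IsLocalization.flat (X.presheaf.stalk x) (hU.primeIdealOf ⟨x, hxU⟩).asIdeal.primeCompl)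
  rw [IsAffineOpen.fromSpecStalk]
  infer_instance

theorem mem_smoothLocus_of_flat_base_stalkMap (h : IsPullback g' f' f g)
    [LocallyOfFinitePresentation f] [LocallyOfFinitePresentation f'] {x' : X'}
    (hg : (g.stalkMap (f' x')).hom.Flat) (hx : x' ∈ f'.smoothLocus) : g' x' ∈ f.smoothLocus := by
  let ι := S'.fromSpecStalk (f' x')
  have : Flat (ι ≫ g) := by
    rw [← Scheme.SpecMap_stalkMap_fromSpecStalk]
    have : Flat (Spec.map (g.stalkMap (f' x'))) := by
      rw [HasRingHomProperty.Spec_iff (P := @Flat)]; exact hg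
    have := flat_fromSpecStalk S (g (f' x'))
    infer_instance
  obtain ⟨x'', hx'', -⟩ := Scheme.Pullback.exists_preimage_pullback (f := f') (g := ι) x'
    (IsLocalRing.closedPoint (S'.presheaf.stalk (f' x'))) (Scheme.fromSpecStalk_closedPoint).symm
  have hc := (IsPullback.of_hasPullback f' ι).paste_horiz h
  have : LocallyOfFinitePresentation (pullback.snd f' ι) := inferInstance
  rw [← hx''] at hx ⊢
  rw [← Scheme.Hom.comp_apply]
  exact Basic.mem_smoothLocus_of_isPullback hc
    (mem_smoothLocus_forward (IsPullback.of_hasPullback f' ι) hx)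

theorem isSmoothAt_of_flat_of_isField {A B K : Type u} [CommRing A] [CommRing B] [Algebra A B]
    [Algebra.FinitePresentation A B] [CommRing K] (hK : IsField K) [Algebra A K]
    (q' : Ideal (TensorProduct A K B)) [q'.IsPrime] (q : Ideal B) [q.IsPrime] [q'.LiesOver q]
    (hflat : Module.Flat A (Localization.AtPrime q)) (h : Algebra.IsSmoothAt K q') :
    Algebra.IsSmoothAt A q := by
  letI := hK.toField
  exact FiberCriterion.isSmoothAt_of_flat_of_field q' q hflat h

theorem mem_smoothLocus_of_isPullback_field {K : Type u} [Field K] {g : Spec (.of K) ⟶ S}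
    {f' : X' ⟶ Spec (.of K)} (h : IsPullback g' f' f g) [LocallyOfFinitePresentation f]
    [LocallyOfFinitePresentation f'] {x' : X'} (hflat : (f.stalkMap (g' x')).hom.Flat)
    (hx : x' ∈ f'.smoothLocus) : g' x' ∈ f.smoothLocus := by
  obtain ⟨V, V', U, W, hV, hV', hU, hW, eV, eU, eW, eW', hxW, hpo⟩ :=
    Basic.exists_affine_charts h x'
  have hK : IsField Γ(Spec (.of K), V') := by
    obtain rfl : V' = ⊤ := by
      refine top_le_iff.mp fun z _ => ?_
      rw [Subsingleton.elim z (f' x')]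
      exact eW hxW
    exact MulEquiv.isField (Field.toIsField K)
      (Scheme.ΓSpecIso (.of K)).commRingCatIsoToRingEquiv.toMulEquiv
  rw [Scheme.Hom.mem_smoothLocus, formallySmooth_stalkMap_iff V' hV' W hW eW hxW] at hx
  rw [Scheme.Hom.mem_smoothLocus, formallySmooth_stalkMap_iff V hV U hU eU (eW' hxW)]
  rw [flat_stalkMap_iff V hV U hU eU (eW' hxW)] at hflat
  have := f.finitePresentation_appLE hV hU eU
  algebraize [(f.appLE V U eU).hom, (g.appLE V V' eV).hom, (f'.appLE V' W eW).hom]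
  obtain ⟨e, he⟩ := Basic.exists_tensor_point hpo (hW.primeIdealOf ⟨x', hxW⟩).asIdeal
  let Q' := (hW.primeIdealOf ⟨x', hxW⟩).asIdeal.comap e
  have : Q'.LiesOver (hU.primeIdealOf ⟨g' x', eW' hxW⟩).asIdeal := ⟨by
    rw [← IsAffineOpen.comap_primeIdealOf_appLE U hU W hW eW' hxW]
    ext y
    change (g'.appLE U W eW') y ∈ (hW.primeIdealOf ⟨x', hxW⟩).asIdeal ↔
      e (Algebra.TensorProduct.includeRight (R := Γ(S, V)) (A := Γ(Spec (.of K), V')) y) ∈
        (hW.primeIdealOf ⟨x', hxW⟩).asIdeal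
    rw [he y]⟩
  have hsm : Algebra.IsSmoothAt Γ(Spec (.of K), V') Q' := by
    have : Algebra.FormallySmooth Γ(Spec (.of K), V')
      (Localization.AtPrime (hW.primeIdealOf ⟨x', hxW⟩).asIdeal) := hx
    exact Algebra.FormallySmooth.of_equiv (Localization.localAlgEquiv Q' _ e rfl).symm
  exact isSmoothAt_of_flat_of_isField hK Q' _ hflat hsm

theorem mem_smoothLocus_of_flat_stalkMap (h : IsPullback g' f' f g)
    [LocallyOfFinitePresentation f] [LocallyOfFinitePresentation f'] {x' : X'}
    (hflat : (f.stalkMap (g' x')).hom.Flat) (hx : x' ∈ f'.smoothLocus) :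
    g' x' ∈ f.smoothLocus := by
  let ι := S'.fromSpecResidueField (f' x')
  obtain ⟨x'', hx'', -⟩ := Scheme.Pullback.exists_preimage_pullback (f := f') (g := ι) x'
    default (Scheme.fromSpecResidueField_apply _ _).symm
  have hc := (IsPullback.of_hasPullback f' ι).paste_horiz h
  have : LocallyOfFinitePresentation (pullback.snd f' ι) := inferInstance
  rw [← hx''] at hx hflat ⊢
  exact mem_smoothLocus_of_isPullback_field hc hflat
    (mem_smoothLocus_forward (IsPullback.of_hasPullback f' ι) hx)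

end Groth.Agent.Locus.BaseChange
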