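import Groth.Agent.Locus.SmoothDescent
import Mathlib.AlgebraicGeometry.Morphisms.Smooth
import Mathlib.AlgebraicGeometry.Morphisms.Etale
import Mathlib.AlgebraicGeometry.Morphisms.FormallyUnramified
import Mathlib.RingTheory.Etale.Locus
import Mathlib.RingTheory.Smooth.Fiber

/-! Smooth, unramified and étale neighbourhoods in terms of stalk maps, and their descent. -/

open CategoryTheory CategoryTheory.Limits AlgebraicGeometry

universe u

namespace Groth.Agent.Locus.Basic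

set_option backward.isDefEq.respectTransparency false

variable {X Y : Scheme.{u}} (f : X ⟶ Y)

theorem exists_smooth_nhd_iff [LocallyOfFinitePresentation f] (x : X) :
    (∃ U : X.Opens, x ∈ U ∧ Smooth (U.ι ≫ f)) ↔ x ∈ f.smoothLocus := by
  constructor
  · rintro ⟨U, hxU, hU⟩
    have := (U.ι ≫ f).smoothLocus_eq_top
    rw [← U.ι.preimage_smoothLocus_eq f] at this
    exact this.ge (x := ⟨x, hxU⟩) trivial
  · intro h
    refine ⟨f.smoothLocus, h, ?_⟩
    rw [← Scheme.Hom.smoothLocus_eq_top_iff, ← Scheme.Hom.preimage_smoothLocus_eq,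
      Scheme.Opens.ι_preimage_self]

theorem formallyUnramified_stalkMap_iff {x : X} (U : Y.Opens) (hU : IsAffineOpen U) (V : X.Opens)
    (hV : IsAffineOpen V) (hVU : V ≤ f ⁻¹ᵁ U) (hx : x ∈ V) :
    letI := (f.appLE U V hVU).hom.toAlgebra
    (f.stalkMap x).hom.FormallyUnramified ↔
      hV.primeIdealOf ⟨x, hx⟩ ∈ Algebra.unramifiedLocus Γ(Y, U) Γ(X, V) := by
  let := (f.appLE U V hVU).hom.toAlgebra
  let p := (hU.primeIdealOf ⟨f x, hVU hx⟩).asIdeal
  let q := (hV.primeIdealOf ⟨x, hx⟩).asIdeal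
  have : q.LiesOver p :=
    ⟨congr($(IsAffineOpen.comap_primeIdealOf_appLE U hU V hV hVU hx).1).symm⟩
  let := Localization.AtPrime.algebraOfLiesOver p q
  trans Algebra.FormallyUnramified (Localization.AtPrime p) (Localization.AtPrime q)
  · rw [← RingHom.formallyUnramified_algebraMap]
    exact RingHom.FormallyUnramified.respectsIso.arrow_mk_iso_iff
      (IsAffineOpen.arrowStalkMapIso f U hU V hV hVU hx)
  · exact ⟨fun _ => Algebra.FormallyUnramified.comp Γ(Y, U) (Localization.AtPrime p) _,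
      fun h => have : Algebra.FormallyUnramified Γ(Y, U) (Localization.AtPrime q) := h
        Algebra.FormallyUnramified.of_restrictScalars Γ(Y, U) _ _⟩

theorem formallyUnramified_stalkMap_of_nhd {x : X} {U : X.Opens} (hx : x ∈ U)
    [FormallyUnramified (U.ι ≫ f)] : (f.stalkMap x).hom.FormallyUnramified := by
  have h := FormallyUnramified.stalkMap (U.ι ≫ f) ⟨x, hx⟩
  rw [Scheme.Hom.stalkMap_comp, CommRingCat.hom_comp,
    RingHom.FormallyUnramified.respectsIso.cancel_right_isIso] at h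
  exact h

theorem primeIdealOf_mem_basicOpen_iff {V : X.Opens} (hV : IsAffineOpen V) (r : Γ(X, V)) {x : X}
    (hx : x ∈ V) : hV.primeIdealOf ⟨x, hx⟩ ∈ PrimeSpectrum.basicOpen r ↔ x ∈ X.basicOpen r := by
  rw [← hV.fromSpec_preimage_basicOpen, Scheme.Hom.mem_preimage, hV.fromSpec_primeIdealOf]

theorem exists_formallyUnramified_nhd_iff [LocallyOfFiniteType f] (x : X) :
    (∃ U : X.Opens, x ∈ U ∧ FormallyUnramified (U.ι ≫ f)) ↔
      (f.stalkMap x).hom.FormallyUnramified := by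
  refine ⟨fun ⟨U, hx, hU⟩ => formallyUnramified_stalkMap_of_nhd f hx, fun H => ?_⟩
  obtain ⟨_, ⟨U, hU, rfl⟩, hxU, -⟩ :=
    Y.isBasis_affineOpens.exists_subset_of_mem_open (Set.mem_univ (f x)) isOpen_univ
  obtain ⟨_, ⟨V, hV, rfl⟩, hxV, hVU⟩ :=
    X.isBasis_affineOpens.exists_subset_of_mem_open hxU (U.2.preimage f.continuous)
  have := f.finiteType_appLE hU hV hVU
  algebraize [(f.appLE U V hVU).hom]
  have hopen : IsOpen (Algebra.unramifiedLocus Γ(Y, U) Γ(X, V)) := Algebra.isOpen_unramifiedLocus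
  obtain ⟨_, ⟨r, rfl⟩, hr, hrsub⟩ := PrimeSpectrum.isTopologicalBasis_basic_opens.exists_subset_of_mem_open
    ((formallyUnramified_stalkMap_iff f U hU V hV hVU hxV).mp H) hopen
  have hle : X.basicOpen r ≤ V := X.basicOpen_le r
  refine ⟨X.basicOpen r, (primeIdealOf_mem_basicOpen_iff hV r hxV).mp hr, ?_⟩
  refine HasRingHomProperty.of_stalkMap RingHom.FormallyUnramified.ofLocalizationPrime fun z => ?_
  rw [Scheme.Hom.stalkMap_comp, CommRingCat.hom_comp,
    RingHom.FormallyUnramified.respectsIso.cancel_right_isIso]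
  exact (formallyUnramified_stalkMap_iff f U hU V hV hVU (hle z.2)).mpr
    (hrsub ((primeIdealOf_mem_basicOpen_iff hV r (hle z.2)).mpr z.2))

theorem exists_etale_nhd_iff [LocallyOfFinitePresentation f] (x : X) :
    (∃ U : X.Opens, x ∈ U ∧ Etale (U.ι ≫ f)) ↔
      x ∈ f.smoothLocus ∧ (f.stalkMap x).hom.FormallyUnramified := by
  constructor
  · rintro ⟨U, hx, hU⟩
    exact ⟨(exists_smooth_nhd_iff f x).mp ⟨U, hx, inferInstance⟩,
      formallyUnramified_stalkMap_of_nhd f hx⟩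
  · rintro ⟨h₁, h₂⟩
    obtain ⟨U, hxU, hU⟩ := (exists_smooth_nhd_iff f x).mpr h₁
    obtain ⟨V, hxV, hV⟩ := (exists_formallyUnramified_nhd_iff f x).mpr h₂
    refine ⟨U ⊓ V, ⟨hxU, hxV⟩, ?_⟩
    have : Smooth ((U ⊓ V).ι ≫ f) := by
      rw [← X.homOfLE_ι (inf_le_left : U ⊓ V ≤ U), Category.assoc]; infer_instance
    have : FormallyUnramified ((U ⊓ V).ι ≫ f) := by
      rw [← X.homOfLE_ι (inf_le_right : U ⊓ V ≤ V), Category.assoc]
      exact MorphismProperty.comp_mem @FormallyUnramified _ _ inferInstance hV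
    exact Etale.of_formallyUnramified_of_flat _

section BaseChange

variable {S X' S' : Scheme.{u}} {f : X ⟶ S} {g : S' ⟶ S} {f' : X' ⟶ S'} {g' : X' ⟶ X}

/-- Affine charts for a point of a fibre product. -/
theorem exists_affine_charts (h : IsPullback g' f' f g) (x' : X') :
    ∃ (V : S.Opens) (V' : S'.Opens) (U : X.Opens) (W : X'.Opens) (_ : IsAffineOpen V)
      (_ : IsAffineOpen V') (_ : IsAffineOpen U) (_ : IsAffineOpen W) (eV : V' ≤ g ⁻¹ᵁ V)
      (eU : U ≤ f ⁻¹ᵁ V) (eW : W ≤ f' ⁻¹ᵁ V') (eW' : W ≤ g' ⁻¹ᵁ U), x' ∈ W ∧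
      IsPushout (f.appLE V U eU) (g.appLE V V' eV) (g'.appLE U W eW') (f'.appLE V' W eW) := by
  obtain ⟨V, hV, hsV⟩ : ∃ V : S.Opens, IsAffineOpen V ∧ g (f' x') ∈ V := by
    obtain ⟨_, ⟨V, hV, rfl⟩, h1, -⟩ :=
      S.isBasis_affineOpens.exists_subset_of_mem_open (Set.mem_univ (g (f' x'))) isOpen_univ
    exact ⟨V, hV, h1⟩
  obtain ⟨_, ⟨V', hV', rfl⟩, hsV', eV⟩ :=
    S'.isBasis_affineOpens.exists_subset_of_mem_open (show f' x' ∈ g ⁻¹ᵁ V from hsV) (g ⁻¹ᵁ V).2
  have hxV : g' x' ∈ f ⁻¹ᵁ V := by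
    rwa [Scheme.Hom.mem_preimage, ← Scheme.Hom.comp_apply, h.w]
  obtain ⟨_, ⟨U, hU, rfl⟩, hxU, eU⟩ :=
    X.isBasis_affineOpens.exists_subset_of_mem_open hxV (f ⁻¹ᵁ V).2
  have hW : IsAffineOpen (g' ⁻¹ᵁ U ⊓ f' ⁻¹ᵁ V') := by
    have : IsAffine _ := hV
    have : IsAffine _ := hV'
    have : IsAffine _ := hU
    exact .of_isIso (Scheme.Hom.isPullback_resLE h eV eU rfl).isoPullback.hom
  exact ⟨V, V', U, _, hV, hV', hU, hW, eV, eU, inf_le_right, inf_le_left, ⟨hxU, hsV'⟩,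
    (isIso_pushoutSection_iff ..).mp (isIso_pushoutSection_of_isAffineOpen h eV eU rfl hV hV' hU)⟩

/-- Transport of a property of a point from `B'` to the tensor product. -/
theorem exists_tensor_point {A A' B B' : CommRingCat.{u}} {a : A ⟶ A'} {b : A ⟶ B} {c : B ⟶ B'}
    {d : A' ⟶ B'} (h : IsPushout b a c d) (q' : Ideal B') [q'.IsPrime] :
    letI := a.hom.toAlgebra
    letI := b.hom.toAlgebra
    letI := d.hom.toAlgebra
    ∃ (e : TensorProduct A A' B ≃ₐ[A'] B'), ∀ y : B,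
      e (Algebra.TensorProduct.includeRight y) = c y := by
  algebraize [a.hom, b.hom, d.hom, c.hom, (b ≫ c).hom]
  have : IsScalarTower A A' B' := .of_algebraMap_eq' (congrArg CommRingCat.Hom.hom h.w)
  have : IsScalarTower A B B' := .of_algebraMap_eq' rfl
  have : Algebra.IsPushout A A' B B' := CommRingCat.isPushout_iff_isPushout.mp h.flip
  exact ⟨Algebra.IsPushout.equiv A A' B B', fun y => by simp [Algebra.IsPushout.equiv_tmul]; rfl⟩

attribute [local instance] Algebra.TensorProduct.rightAlgebra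

theorem mem_smoothLocus_of_isPullback (h : IsPullback g' f' f g) [LocallyOfFinitePresentation f]
    [LocallyOfFinitePresentation f'] [Flat g] {x' : X'} (hx : x' ∈ f'.smoothLocus) :
    g' x' ∈ f.smoothLocus := by
  obtain ⟨V, V', U, W, hV, hV', hU, hW, eV, eU, eW, eW', hxW, hpo⟩ := exists_affine_charts h x'
  rw [Scheme.Hom.mem_smoothLocus, formallySmooth_stalkMap_iff V' hV' W hW eW hxW] at hx
  rw [Scheme.Hom.mem_smoothLocus, formallySmooth_stalkMap_iff V hV U hU eU (eW' hxW)]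
  have := f.finitePresentation_appLE hV hU eU
  have := g.flat_appLE hV hV' eV
  algebraize [(f.appLE V U eU).hom, (g.appLE V V' eV).hom, (f'.appLE V' W eW).hom]
  obtain ⟨e, he⟩ := exists_tensor_point hpo (hW.primeIdealOf ⟨x', hxW⟩).asIdeal
  let Q' := (hW.primeIdealOf ⟨x', hxW⟩).asIdeal.comap e
  have : Q'.LiesOver (hU.primeIdealOf ⟨g' x', eW' hxW⟩).asIdeal := ⟨by
    rw [← IsAffineOpen.comap_primeIdealOf_appLE U hU W hW eW' hxW]
    ext y
    change (g'.appLE U W eW') y ∈ (hW.primeIdealOf ⟨x', hxW⟩).asIdeal ↔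
      e (Algebra.TensorProduct.includeRight (R := Γ(S, V)) (A := Γ(S', V')) y) ∈
        (hW.primeIdealOf ⟨x', hxW⟩).asIdeal
    rw [he y]⟩
  have hsm : Algebra.IsSmoothAt Γ(S', V') Q' := by
    have : Algebra.FormallySmooth Γ(S', V')
      (Localization.AtPrime (hW.primeIdealOf ⟨x', hxW⟩).asIdeal) := hx
    exact Algebra.FormallySmooth.of_equiv (Localization.localAlgEquiv Q' _ e rfl).symm
  exact Groth.Agent.Locus.SmoothDescent.isSmoothAt_of_baseChange _ Q' _ hsm

end BaseChange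

end Groth.Agent.Locus.Basic
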