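import Groth.Agent.Locus.Basic
import Mathlib.RingTheory.Smooth.StandardSmoothOfFree
import Mathlib.RingTheory.Unramified.LocalStructure
import Mathlib.RingTheory.Etale.StandardEtale

/-! Standard smooth and standard étale charts around a point. -/

open CategoryTheory CategoryTheory.Limits AlgebraicGeometry

universe u

namespace Groth.Agent.Locus.Charts

set_option backward.isDefEq.respectTransparency false

variable {X S : Scheme.{u}} (f : X ⟶ S) {P : MorphismProperty Scheme.{u}}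
  {Q : ∀ {R T : Type u} [CommRing R] [CommRing T], (R →+* T) → Prop} [HasRingHomProperty P Q]
  {V : S.Opens} {U : X.Opens}

omit [HasRingHomProperty P Q] in
theorem appLE_congr {U' : X.Opens} (h : U' = U) (e : U' ≤ f ⁻¹ᵁ V) :
    Q (f.appLE V U' e).hom → Q (f.appLE V U (h ▸ e)).hom := by
  subst h; exact id

theorem appLE_of_ι_comp (hV : IsAffineOpen V) (hU : IsAffineOpen U) (e : U ≤ f ⁻¹ᵁ V)
    (h : P (U.ι ≫ f)) : Q (f.appLE V U e).hom := by
  have : IsAffine _ := hU
  have e' : (⊤ : U.toScheme.Opens) ≤ (U.ι ≫ f) ⁻¹ᵁ V := fun x _ => e x.2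
  have h1 := HasRingHomProperty.appLE P (U.ι ≫ f) h ⟨V, hV⟩ ⟨⊤, isAffineOpen_top _⟩ e'
  rw [Scheme.Hom.comp_appLE, Scheme.Opens.ι_appLE] at h1
  exact appLE_congr f U.ι_image_top (by simpa using e) h1

theorem ι_comp_of_appLE [P.IsStableUnderComposition] (hV : IsAffineOpen V) (hU : IsAffineOpen U)
    (e : U ≤ f ⁻¹ᵁ V) (hP : P V.ι) (h : Q (f.appLE V U e).hom) : P (U.ι ≫ f) := by
  have : IsAffine _ := hU
  have : IsAffine _ := hV
  rw [← Scheme.Hom.resLE_comp_ι f e]
  refine P.comp_mem _ _ ?_ hP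
  rw [HasRingHomProperty.iff_of_isAffine (P := P)]
  exact ((HasRingHomProperty.isLocal_ringHomProperty P).respectsIso.arrow_mk_iso_iff
    (arrowResLEAppIso f V U e)).mpr h

theorem exists_standard_chart (hV : IsAffineOpen V) {x : X} (hxV : f x ∈ V) {W : X.Opens}
    (hxW : x ∈ W) (hW : P (W.ι ≫ f)) :
    ∃ (U : X.Opens) (_ : IsAffineOpen U) (_ : x ∈ U) (e : U ≤ f ⁻¹ᵁ V), Q (f.appLE V U e).hom := by
  obtain ⟨_, ⟨U, hU, rfl⟩, hxU, hUW⟩ := X.isBasis_affineOpens.exists_subset_of_mem_open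
    (show x ∈ W ⊓ f ⁻¹ᵁ V from ⟨hxW, hxV⟩) (W ⊓ f ⁻¹ᵁ V).2
  refine ⟨U, hU, hxU, fun y hy => (hUW hy).2, appLE_of_ι_comp (P := P) f hV hU _ ?_⟩
  have hle : U ≤ W := fun y hy => (hUW hy).1
  rw [← X.homOfLE_ι hle, Category.assoc]
  exact HasRingHomProperty.comp_of_isOpenImmersion P (X.homOfLE hle) (W.ι ≫ f) hW

/-- The algebra isomorphism between the localisation and the sections on a basic open. -/
theorem exists_algEquiv_basicOpen (hU : IsAffineOpen U) (e : U ≤ f ⁻¹ᵁ V) (r : Γ(X, U)) :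
    letI := (f.appLE V U e).hom.toAlgebra
    letI := (f.appLE V (X.basicOpen r) ((X.basicOpen_le r).trans e)).hom.toAlgebra
    Nonempty (Localization.Away r ≃ₐ[Γ(S, V)] Γ(X, X.basicOpen r)) := by
  let := (f.appLE V U e).hom.toAlgebra
  let := (f.appLE V (X.basicOpen r) ((X.basicOpen_le r).trans e)).hom.toAlgebra
  have := hU.isLocalization_basicOpen r
  have : IsScalarTower Γ(S, V) Γ(X, U) Γ(X, X.basicOpen r) := by
    refine .of_algebraMap_eq' (congrArg CommRingCat.Hom.hom (?_ :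
      f.appLE V (X.basicOpen r) ((X.basicOpen_le r).trans e) =
        f.appLE V U e ≫ X.presheaf.map (homOfLE (X.basicOpen_le r)).op))
    rw [Scheme.Hom.appLE_map]
  exact ⟨(IsLocalization.algEquiv (.powers r) _ Γ(X, X.basicOpen r)).restrictScalars Γ(S, V)⟩

end Groth.Agent.Locus.Charts
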