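import Mathlib.AlgebraicGeometry.Morphisms.FiniteType
import Mathlib.AlgebraicGeometry.Morphisms.FormallyUnramified
import Mathlib.AlgebraicGeometry.Limits
import Mathlib.RingTheory.Unramified.Field

/-! Coproducts of spectra of separable finite extensions are unramified. -/

open CategoryTheory CategoryTheory.Limits AlgebraicGeometry

universe u

namespace Groth.Agent.Locus.CoprodSpec

set_option backward.isDefEq.respectTransparency false

theorem coprod_unramified {k : CommRingCat.{u}} {X : Scheme.{u}} (f : X ⟶ Spec k)
    {ι : Type u} (K : ι → Type u) [∀ i, Field (K i)] (φ : ∀ i, k →+* K i)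
    (h : ∀ i, (φ i).FormallyUnramified ∧ (φ i).FiniteType)
    (e : X ≅ ∐ (fun i => Spec (CommRingCat.of (K i))))
    (he : e.hom ≫ Sigma.desc (fun i => Spec.map (CommRingCat.ofHom (φ i))) = f) :
    FormallyUnramified f ∧ LocallyOfFiniteType f := by
  have : FormallyUnramified (Sigma.desc (fun i => Spec.map (CommRingCat.ofHom (φ i)))) :=
    IsZariskiLocalAtSource.sigmaDesc (P := @FormallyUnramified) fun i => by
      rw [HasRingHomProperty.Spec_iff (P := @FormallyUnramified)]; exact (h i).1
  have : LocallyOfFiniteType (Sigma.desc (fun i => Spec.map (CommRingCat.ofHom (φ i)))) :=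
    IsZariskiLocalAtSource.sigmaDesc (P := @LocallyOfFiniteType) fun i => by
      rw [HasRingHomProperty.Spec_iff (P := @LocallyOfFiniteType)]; exact (h i).2
  rw [← he]
  exact ⟨MorphismProperty.comp_mem @FormallyUnramified _ _ inferInstance ‹_›, inferInstance⟩

theorem separable_finite {k K : Type u} [Field k] [Field K] [Algebra k K]
    (h : FiniteDimensional k K ∧ Algebra.IsSeparable k K) :
    (algebraMap k K).FormallyUnramified ∧ (algebraMap k K).FiniteType := by
  obtain ⟨h1, h2⟩ := h
  exact ⟨RingHom.formallyUnramified_algebraMap.mpr (Algebra.FormallyUnramified.of_isSeparable k K),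
    RingHom.finiteType_algebraMap.mpr inferInstance⟩

end Groth.Agent.Locus.CoprodSpec
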