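import Mathlib.RingTheory.Smooth.Locus
import Mathlib.RingTheory.Extension.Cotangent.BaseChange
import Mathlib.RingTheory.Kaehler.TensorProduct
import Mathlib.RingTheory.Flat.FaithfullyFlat.Algebra
import Mathlib.RingTheory.Unramified.Locus
import Mathlib.RingTheory.Etale.Locus
import Mathlib.RingTheory.Spectrum.Prime.FreeLocus
import Mathlib.RingTheory.Localization.AtPrime.Basic
import Mathlib.RingTheory.Flat.Localization

/-! Descent of smoothness and unramifiedness at a point along flat base change. -/

open TensorProduct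

universe u

namespace Groth.Agent.Locus.SmoothDescent

attribute [local instance] Algebra.TensorProduct.rightAlgebra

variable {A B A' : Type u} [CommRing A] [CommRing B] [CommRing A'] [Algebra A B] [Algebra A A']

section

variable (A' : Type u) [CommRing A'] [Algebra A A'] [Module.Flat A A']

theorem h1Cotangent_isBaseChange :
    IsBaseChange (A' ⊗[A] B) ((Algebra.H1Cotangent.map A A' B (A' ⊗[A] B))) := by
  let M := Algebra.H1Cotangent A B
  let μ : M →ₗ[B] Algebra.H1Cotangent A' (A' ⊗[A] B) := Algebra.H1Cotangent.map A A' B (A' ⊗[A] B)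
  let L : (A' ⊗[A] B) ⊗[B] M →ₗ[A' ⊗[A] B] Algebra.H1Cotangent A' (A' ⊗[A] B) :=
    μ.liftBaseChange (A' ⊗[A] B)
  let e := Algebra.tensorH1CotangentOfFlat A B A'
  let j : A' ⊗[A] M →ₗ[A] (A' ⊗[A] B) ⊗[B] M :=
    TensorProduct.lift (LinearMap.mk₂ A (fun t m => (t ⊗ₜ[A] (1 : B)) ⊗ₜ[B] m)
      (fun t t' m => by simp [add_tmul])
      (fun a t m => by simp [smul_tmul'])
      (fun t m m' => by simp [tmul_add])
      (fun a t m => by
        rw [← algebraMap_smul B a m, tmul_smul, ← IsScalarTower.algebraMap_smul B a]))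
  have hj : Function.Surjective j := by
    intro x
    induction x with
    | zero => exact ⟨0, map_zero _⟩
    | add x y hx hy =>
      obtain ⟨a, rfl⟩ := hx; obtain ⟨b, rfl⟩ := hy
      exact ⟨a + b, map_add _ _ _⟩
    | tmul z m =>
      induction z with
      | zero => exact ⟨0, by simp⟩
      | add x y hx hy =>
        obtain ⟨a, ha⟩ := hx; obtain ⟨b, hb⟩ := hy
        exact ⟨a + b, by rw [map_add, ha, hb, add_tmul]⟩
      | tmul t b =>
        refine ⟨t ⊗ₜ (b • m), ?_⟩
        have : t ⊗ₜ[A] b = b • (t ⊗ₜ[A] (1 : B)) := by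
          rw [Algebra.smul_def, RingHom.algebraMap_toAlgebra]
          simp
        change (t ⊗ₜ[A] (1 : B)) ⊗ₜ[B] (b • m) = _
        rw [tmul_smul, smul_tmul', this]
  have hLj : ∀ x, L (j x) = e x := by
    intro x
    induction x with
    | zero => simp
    | add x y hx hy => simp [hx, hy]
    | tmul t m =>
      change (t ⊗ₜ[A] (1 : B)) • μ m = Algebra.tensorH1CotangentOfFlat A B A' (t ⊗ₜ m)
      rw [Algebra.tensorH1CotangentOfFlat_tmul]
      exact algebraMap_smul (A' ⊗[A] B) t (μ m)
  have hL : Function.Bijective L := by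
    refine ⟨(injective_iff_map_eq_zero L).mpr fun y hy => ?_, fun z => ?_⟩
    · obtain ⟨x, rfl⟩ := hj y
      rw [hLj, map_eq_zero_iff _ e.injective] at hy
      rw [hy, map_zero]
    · obtain ⟨x, rfl⟩ := e.surjective z
      exact ⟨j x, hLj x⟩
  exact hL

variable [Algebra.FinitePresentation A B]

/-- Smoothness at a point descends along flat base change. -/
theorem isSmoothAt_of_baseChange (q' : Ideal (A' ⊗[A] B)) [q'.IsPrime] (q : Ideal B) [q.IsPrime]
    [q'.LiesOver q] (h : Algebra.IsSmoothAt A' q') : Algebra.IsSmoothAt A q := by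
  let B' := A' ⊗[A] B
  have : Module.Flat B B' := Module.Flat.of_linearEquiv
    (LinearEquiv.ofBijective
      ({ toFun := Algebra.TensorProduct.comm A A' B, map_add' := map_add _,
         map_smul' := fun b x => by
          simp [Algebra.smul_def, RingHom.algebraMap_toAlgebra] } : B' →ₗ[B] B ⊗[A] A')
      (Algebra.TensorProduct.comm A A' B).bijective)
  let S := Localization.AtPrime q
  let T := Localization.AtPrime q'
  let := Localization.AtPrime.algebraOfLiesOver q q'
  have : Module.Flat B T := Module.Flat.trans B B' T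
  have : Module.Flat S T := (Module.flat_iff_of_isLocalization S q.primeCompl T).mpr inferInstance
  have : Module.FaithfullyFlat S T := Module.FaithfullyFlat.of_flat_of_isLocalHom
  change PrimeSpectrum.mk q inferInstance ∈ Algebra.smoothLocus A B
  have h' : PrimeSpectrum.mk q' inferInstance ∈ Algebra.smoothLocus A' B' := h
  rw [Algebra.smoothLocus_eq_compl_support_inter] at h' ⊢
  obtain ⟨hH, hΩ⟩ := h'
  have hbcH := h1Cotangent_isBaseChange (A := A) (B := B) A'
  refine ⟨?_, ?_⟩
  · rw [Set.mem_compl_iff, Module.notMem_support_iff] at hH ⊢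
    have : Subsingleton (T ⊗[S] (S ⊗[B] Algebra.H1Cotangent A B)) := by
      have h1 : Subsingleton (T ⊗[B'] Algebra.H1Cotangent A' B') :=
        (LocalizedModule.equivTensorProduct q'.primeCompl _).symm.toEquiv.subsingleton
      exact ((AlgebraTensorModule.cancelBaseChange B S T T _).trans
        ((AlgebraTensorModule.cancelBaseChange B B' T T _).symm.trans
          (AlgebraTensorModule.congr (.refl T T) hbcH.equiv))).toEquiv.subsingleton
    have : Subsingleton (S ⊗[B] Algebra.H1Cotangent A B) :=
      Module.FaithfullyFlat.lTensor_reflects_triviality S T _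
    exact (LocalizedModule.equivTensorProduct q.primeCompl _).toEquiv.subsingleton
  · rw [Module.mem_freeLocus_iff_tensor _ T] at hΩ
    rw [Module.mem_freeLocus_iff_tensor _ S]
    let e : T ⊗[S] (S ⊗[B] Ω[B⁄A]) ≃ₗ[T] T ⊗[B'] Ω[B'⁄A'] :=
      (AlgebraTensorModule.cancelBaseChange B S T T _).trans
        ((AlgebraTensorModule.cancelBaseChange B B' T T _).symm.trans
          (AlgebraTensorModule.congr (.refl T T) (KaehlerDifferential.tensorKaehlerEquiv A A' B B')))
    have : Module.Free T (T ⊗[S] (S ⊗[B] Ω[B⁄A])) := Module.Free.of_equiv e.symm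
    have : Module.Flat S (S ⊗[B] Ω[B⁄A]) := Module.Flat.of_flat_tensorProduct S (S ⊗[B] Ω[B⁄A]) T
    exact Module.free_of_flat_of_isLocalRing

end

section

variable (A' : Type u) [CommRing A'] [Algebra A A'] [Algebra.EssFiniteType A B]

/-- Unramifiedness at a point descends along any base change. -/
theorem isUnramifiedAt_of_baseChange (q' : Ideal (A' ⊗[A] B)) [q'.IsPrime] (q : Ideal B) [q.IsPrime]
    [q'.LiesOver q] (h : Algebra.IsUnramifiedAt A' q') : Algebra.IsUnramifiedAt A q := by
  let B' := A' ⊗[A] B
  change PrimeSpectrum.mk q inferInstance ∈ Algebra.unramifiedLocus A B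
  have h' : PrimeSpectrum.mk q' inferInstance ∈ Algebra.unramifiedLocus A' B' := h
  rw [Algebra.unramifiedLocus_eq_compl_support, Set.mem_compl_iff,
    Module.mem_support_iff_nontrivial_residueField_tensorProduct, not_nontrivial_iff_subsingleton] at h' ⊢
  let := Localization.AtPrime.algebraOfLiesOver q q'
  have : Subsingleton (q'.ResidueField ⊗[B'] Ω[B'⁄A']) := h'
  have : Subsingleton (q'.ResidueField ⊗[q.ResidueField] (q.ResidueField ⊗[B] Ω[B⁄A])) :=
    ((AlgebraTensorModule.cancelBaseChange B q.ResidueField q'.ResidueField q'.ResidueField _).trans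
      ((AlgebraTensorModule.cancelBaseChange B B' q'.ResidueField q'.ResidueField _).symm.trans
        (AlgebraTensorModule.congr (.refl q'.ResidueField q'.ResidueField)
          (KaehlerDifferential.tensorKaehlerEquiv A A' B B')))).toEquiv.subsingleton
  exact Module.FaithfullyFlat.lTensor_reflects_triviality q.ResidueField q'.ResidueField _

end

end Groth.Agent.Locus.SmoothDescent
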