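import Groth.Agent.Locus.FiberCriterion
import Mathlib.RingTheory.Etale.Field
import Mathlib.RingTheory.Unramified.Locus
import Mathlib.RingTheory.Unramified.LocalRing
import Mathlib.RingTheory.LocalRing.ResidueField.Instances

/-! An algebra that is flat and unramified at a prime is smooth at it. -/

open TensorProduct

universe u

namespace Groth.Agent.Locus.UnramifiedFiber

set_option backward.isDefEq.respectTransparency false

variable {A B : Type u} [CommRing A] [CommRing B] [Algebra A B]

theorem isSmoothAt_of_flat_of_unramified [Algebra.FinitePresentation A B] (p : Ideal A) [p.IsPrime]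
    (q : Ideal B) [q.IsPrime] [q.LiesOver p] (hflat : Module.Flat A (Localization.AtPrime q))
    (hunr : Algebra.IsUnramifiedAt A q) : Algebra.IsSmoothAt A q := by
  let := Localization.AtPrime.algebraOfLiesOver p q
  let ψ : p.Fiber B →ₐ[A] q.ResidueField :=
    Algebra.TensorProduct.lift (IsScalarTower.toAlgHom A p.ResidueField q.ResidueField)
      (IsScalarTower.toAlgHom A B q.ResidueField) fun _ _ => .all _ _
  let qb := RingHom.ker ψ
  have hqbp : qb.IsPrime := RingHom.ker_isPrime _
  algebraize [(Algebra.TensorProduct.includeRight : B →ₐ[A] p.Fiber B).toRingHom]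
  have hqb : qb.LiesOver q := ⟨by
    ext b
    change b ∈ q ↔ ψ (1 ⊗ₜ b) = 0
    simp [ψ, Ideal.algebraMap_residueField_eq_zero]⟩
  let L := Localization.AtPrime qb
  let Sq := Localization.AtPrime q
  let := Localization.AtPrime.algebraOfLiesOver q qb
  have : IsScalarTower A Sq L := .to₁₃₄ _ B _ _
  have h1 : Algebra.FormallyUnramified B (p.Fiber B) := by
    have : Algebra.FormallyUnramified A (Localization.AtPrime p) :=
      Algebra.FormallyUnramified.of_isLocalization p.primeCompl
    have : Algebra.FormallyUnramified A p.ResidueField :=
      Algebra.FormallyUnramified.comp A (Localization.AtPrime p) _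
    have : Algebra.FormallyUnramified B (B ⊗[A] p.ResidueField) := inferInstance
    exact Algebra.FormallyUnramified.of_equiv
      ({ __ := Algebra.TensorProduct.comm A B p.ResidueField, commutes' _ := rfl } :
        B ⊗[A] p.ResidueField ≃ₐ[B] p.Fiber B)
  have : Algebra.FormallyUnramified (p.Fiber B) L :=
    Algebra.FormallyUnramified.of_isLocalization qb.primeCompl
  have : Algebra.FormallyUnramified B L := Algebra.FormallyUnramified.comp B (p.Fiber B) L
  have : Algebra.FormallyUnramified Sq L := Algebra.FormallyUnramified.of_restrictScalars B Sq L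
  have : Algebra.FormallyUnramified A Sq := hunr
  have : Algebra.FormallyUnramified A L := Algebra.FormallyUnramified.comp A Sq L
  have : Algebra.FormallyUnramified p.ResidueField L :=
    Algebra.FormallyUnramified.of_restrictScalars A p.ResidueField L
  have : Algebra.EssFiniteType p.ResidueField L := Algebra.EssFiniteType.comp _ (p.Fiber B) L
  have : Algebra.FormallyEtale p.ResidueField L :=
    Algebra.FormallyEtale.of_formallyUnramified_of_field _ _
  have h2 : Algebra.IsSmoothAt p.ResidueField qb :=
    (Algebra.FormallyEtale.iff_formallyUnramified_and_formallySmooth.mp this).2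
  exact FiberCriterion.isSmoothAt_of_flat_of_fiber p q hflat qb h2

end Groth.Agent.Locus.UnramifiedFiber
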